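import Cfsg.Agent.H892.EP.Rows
import Cfsg.Agent.H809.Evn.Odd
import Cfsg.Agent.H217.Odm.Real
import Cfsg.Agent.H438.Fpr.HNA
import Cfsg.Agent.H525.RO.HnElt
import Cfsg.Agent.H755.CC.HNFive
import Cfsg.Agent.H569.HNThree
import Cfsg.Agent.H399.Two.HN
import Cfsg.Agent.H684.Principal
import Cfsg.Agent.H845.HNNineteen

/-!
# S4929, TEAM EVP: the row `HN` (helper87)

`|HN| = 2^14 * 3^6 * 5^6 * 7 * 11 * 19`.

* `p = 3`: the 9-cycles of `A12` are real and commute with no involution;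
* `p = 5`: a product of two involutions of order 25, which commutes with no involution;
* `p = 7, 11`: cyclic Sylow subgroups and real elements of order `p`;
* `p = 19`: `|C(x)| = 19`, and the character of degree 8910.
-/

set_option autoImplicit false

namespace Cfsg.Agent.H87.EP.HN

open Subgroup Cfsg Cfsg.Agent.H892.EP Cfsg.Agent.H453.OddM Cfsg.Agent.H217.Odm
open Cfsg.Agent.CpAutHN.Alt (A12 Φ Φ_inj cy)
open Equiv.Perm (mem_alternatingGroup)

/-- a real `p`-element which commutes with no involution -/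
theorem evAt_of_no_two {G : Type} [Group G] [Finite G] {p : ℕ} [Fact p.Prime] (z : G)
    (hz : ∃ k : ℕ, orderOf z = p ^ k) (hz1 : z ≠ 1) (hr : IsConj z z⁻¹)
    (h2 : ∀ t : G, orderOf t = 2 → z * t = t * z → False) : EvAt p G := by
  intro M hM
  refine Cfsg.Agent.H809.Evn.exists_even_of_real_odd hM z hz hz1 hr rfl ?_
  have h3 : Odd (Nat.card (centralizer ({z} : Set G))) := by
    rw [← Nat.not_even_iff_odd, even_iff_two_dvd]
    intro h
    have : Fact (Nat.Prime 2) := ⟨Nat.prime_two⟩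
    obtain ⟨t, ht⟩ := exists_prime_orderOf_dvd_card' 2 h
    exact h2 t (by rw [orderOf_coe, ht]) (mem_centralizer_singleton_iff.1 t.2).symm
  exact h3.of_dvd_nat (index_dvd_card _)

/-- the 9-cycle -/
def nc : Equiv.Perm (Fin 12) := cy [0, 1, 2, 3, 4, 5, 6, 7, 8]
/-- a reflection -/
def rf : Equiv.Perm (Fin 12) := cy [0, 8] * cy [1, 7] * cy [2, 6] * cy [3, 5]

theorem nc_mem : nc ∈ alternatingGroup (Fin 12) := by rw [mem_alternatingGroup]; decide +kernel
theorem rf_mem : rf ∈ alternatingGroup (Fin 12) := by rw [mem_alternatingGroup]; decide +kernel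
theorem nc_nine : nc ^ 9 = 1 := by decide +kernel
theorem nc_three : nc ^ 3 ≠ 1 := by decide +kernel
theorem rf_nc : rf * nc * rf⁻¹ = nc⁻¹ := by decide +kernel

/-- the 9-cycle -/
def nA : A12 := ⟨nc, nc_mem⟩

/-- the reflection -/
def rA : A12 := ⟨rf, rf_mem⟩

theorem rA_nA : rA * nA * rA⁻¹ = nA⁻¹ := Subtype.ext rf_nc

theorem three : EvAt 3 Spor.HN := by
  have hs : IsSimpleGroup Spor.HN := Cfsg.Agent.H755.CC.HNB.simple_G
  have hf : Finite Spor.HN := Cfsg.Agent.H755.CC.HNB.finite_G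
  have : Fact (Nat.Prime 3) := ⟨Nat.prime_three⟩
  have h9 : nA ^ 9 = 1 := Subtype.ext (by rw [SubmonoidClass.coe_pow]; exact nc_nine)
  have h3 : nA ^ 3 ≠ 1 := fun h => nc_three (by
    have := congrArg Subtype.val h
    rwa [SubmonoidClass.coe_pow] at this)
  have hz9 : (Φ nA) ^ 9 = 1 := by rw [← map_pow, h9, map_one]
  have hz3 : (Φ nA) ^ 3 ≠ 1 := fun h => h3 (Φ_inj (by rw [map_pow, h, map_one]))
  refine evAt_of_no_two (Φ nA) ?_ ?_ ?_ ?_
  · exact ⟨2, orderOf_eq_prime_pow hz3 hz9⟩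
  · intro h
    exact hz3 (by rw [h, one_pow])
  · rw [isConj_iff]
    refine ⟨Φ rA, ?_⟩
    rw [← map_inv, ← map_inv, ← map_mul, ← map_mul, rA_nA]
  · intro t ht hc
    exact hz3 (Cfsg.Agent.H569.HNThree.exp_three ⟨2, hz9⟩ ht hc)

theorem five : EvAt 5 Spor.HN := by
  have hs : IsSimpleGroup Spor.HN := Cfsg.Agent.H755.CC.HNB.simple_G
  have hf : Finite Spor.HN := Cfsg.Agent.H755.CC.HNB.finite_G
  have : Fact (Nat.Prime 5) := ⟨Nat.prime_five⟩
  obtain ⟨b, g, hb, ho⟩ := Cfsg.Agent.H525.RO.HnElt.exists_order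
  refine evAt_of_no_two (b * (g⁻¹ * b * g)) ⟨2, by rw [ho]; norm_num⟩ ?_ ?_ ?_
  · intro h
    rw [h, orderOf_one] at ho
    omega
  · rw [isConj_iff]
    refine ⟨b, ?_⟩
    have hb' : b⁻¹ = b := (eq_inv_of_mul_eq_one_left hb).symm
    rw [mul_inv_rev, mul_inv_rev, mul_inv_rev, inv_inv, hb']
    calc b * (b * (g⁻¹ * b * g)) * b = (b * b) * (g⁻¹ * b * g) * b := by group
      _ = g⁻¹ * (b * g) * b := by rw [hb]; group
  · intro t ht hc
    refine Cfsg.Agent.H755.CC.HNFive.no_sq (s := t) ?_ ?_ hc (by rw [ho]; norm_num)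
    · rintro rfl
      rw [orderOf_one] at ht
      omega
    · rw [← pow_two, ← ht, pow_orderOf_eq_one]

theorem cz {G : Type*} [Group G] (x : G) : centralizer ((zpowers x : Subgroup G) : Set G) = centralizer ({x} : Set G) := by
  rw [zpowers_eq_closure, centralizer_closure]

theorem cyc {r : ℕ} [Fact r.Prime] {G : Type} [Group G] [Finite G] {n : ℕ} (hn : Nat.card G = r * n) (hr : n % r ≠ 0)
    (P : Sylow r G) : IsCyclic (P : Subgroup G) := by
  have hrp : r.Prime := Fact.out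
  refine isCyclic_of_prime_card (p := r) ?_
  rw [Sylow.card_eq_multiplicity, hn, Nat.factorization_mul hrp.ne_zero (fun h => by simp [h] at hr),
    Finsupp.add_apply, hrp.factorization_self, Nat.factorization_eq_zero_of_not_dvd (fun h => hr (Nat.mod_eq_zero_of_dvd h))]
  norm_num

theorem seven : EvAt 7 Spor.HN := by
  have hs : IsSimpleGroup Spor.HN := Cfsg.Agent.H755.CC.HNB.simple_G
  have hf : Finite Spor.HN := Cfsg.Agent.H755.CC.HNB.finite_G
  have hc : Nat.card Spor.HN = 273030912000000 := Cfsg.Agent.H755.CC.HNB.card_G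
  have : Fact (Nat.Prime 7) := ⟨by norm_num⟩
  have c7 : ∀ x : Spor.HN, orderOf x = 7 → Nat.card (centralizer ({x} : Set Spor.HN)) = 7 * 60 := by
    intro x hx
    have h1 : Nat.card (zpowers x) = 7 := by rw [Nat.card_zpowers, hx]
    rw [← cz]
    exact (H438.Fpr.HN.cn7 h1).1
  obtain ⟨x, hx, g, hg⟩ : RealP Spor.HN 7 := realP_of_cent (r := 7) (n := 273030912000000 / 7) (c := 60) (e := 6)
    (by norm_num) (by rw [hc]) (by norm_num) c7 (by norm_num) (by norm_num) (by decide)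
  exact evAt_of_real_cyclic (by norm_num) (cyc (n := 273030912000000 / 7) (by rw [hc]) (by norm_num)) hx
    (isConj_iff.2 ⟨g, hg⟩)

theorem eleven : EvAt 11 Spor.HN := by
  have hs : IsSimpleGroup Spor.HN := Cfsg.Agent.H755.CC.HNB.simple_G
  have hf : Finite Spor.HN := Cfsg.Agent.H755.CC.HNB.finite_G
  have hc : Nat.card Spor.HN = 273030912000000 := Cfsg.Agent.H755.CC.HNB.card_G
  have : Fact (Nat.Prime 11) := ⟨by norm_num⟩
  have c11 : ∀ x : Spor.HN, orderOf x = 11 → Nat.card (centralizer ({x} : Set Spor.HN)) = 11 * 2 := by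
    intro x hx
    have h1 : Nat.card (zpowers x) = 11 := by rw [Nat.card_zpowers, hx]
    rw [← cz]
    exact (H438.Fpr.HN.cn11 h1).1
  obtain ⟨x, hx, g, hg⟩ : RealP Spor.HN 11 := realP_of_cent (r := 11) (n := 273030912000000 / 11) (c := 2) (e := 10)
    (by norm_num) (by rw [hc]) (by norm_num) c11 (by norm_num) (by norm_num) (by decide)
  exact evAt_of_real_cyclic (by norm_num) (cyc (n := 273030912000000 / 11) (by rw [hc]) (by norm_num)) hx
    (isConj_iff.2 ⟨g, hg⟩)

theorem nineteen : EvAt 19 Spor.HN := by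
  have hs : IsSimpleGroup Spor.HN := Cfsg.Agent.H755.CC.HNB.simple_G
  have hf : Finite Spor.HN := Cfsg.Agent.H755.CC.HNB.finite_G
  have : Fact (Nat.Prime 19) := ⟨by norm_num⟩
  intro M hM
  obtain ⟨x, hx, hcx⟩ := Cfsg.Agent.H845.HNNineteen.hn_nineteen
  obtain ⟨χ, hχ⟩ := Cfsg.Agent.H399.Two.HN.deg_of Cfsg.Agent.H492.IMHN.exists_8910
  refine ⟨χ, Cfsg.Agent.H684.Principal.mem_of_not_dvd hM (U := zpowers x) ?_ ?_ χ ?_, ?_⟩
  · exact IsPGroup.of_card (n := 1) (by rw [Nat.card_zpowers, hx, pow_one])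
  · exact IsPGroup.of_card (n := 1) (by rw [cz, hcx, pow_one])
  · rw [hχ]; norm_num
  · rw [hχ]; norm_num

theorem ev : Ev Spor.HN := by
  intro p hp hp2 hd
  rw [Cfsg.Agent.H755.CC.HNB.card_G] at hd
  have h0 := Cfsg.Agent.H651.Two.prime_mem hp (L := [(2, 14), (3, 6), (5, 6), (7, 1), (11, 1), (19, 1)])
    (by norm_num) (N := 273030912000000) (by decide +kernel) hd
  simp only [List.map_cons, List.map_nil, List.mem_cons, List.not_mem_nil, or_false] at h0
  rcases h0 with rfl | rfl | rfl | rfl | rfl | rfl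
  · exact absurd rfl hp2
  · exact three
  · exact five
  · exact seven
  · exact eleven
  · exact nineteen

end Cfsg.Agent.H87.EP.HN

namespace Cfsg.Agent.H87.EP

open Cfsg.Agent.H892.EP

/-- **The row `HN`.** -/
theorem row_hn : SpRow fun K => Cfsg.Spor.IsoHN K := by
  intro K _ _ _ h
  obtain ⟨e⟩ := h
  have : Finite Cfsg.Spor.HN := Cfsg.Agent.H755.CC.HNB.finite_G
  exact Ev.tr e.symm HN.ev

end Cfsg.Agent.H87.EP
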